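import Groth.Agent.FlatAscent.NormalLocal
import Mathlib.RingTheory.Artinian.Module
import Mathlib.RingTheory.IntegralClosure.IntegrallyClosed

/-!
# A criterion for normality of non-Noetherian rings with few minimal primes
-/

universe u

namespace Groth.Agent.NormalTensor

open Polynomial

/-- A normal ring is reduced. -/
theorem isReduced_of_isNormalRing {R : Type u} [CommRing R] (h : EGA4.IsNormalRing R) : IsReduced R :=
  isReduced_ofLocalizationMaximal R fun J _ => haveI := (h J).1; inferInstance

/-- A ring integrally closed in its total ring of fractions, the latter a finite product of fields, is normal. -/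
theorem isNormalRing_of_isIntegrallyClosed {R Q : Type u} [CommRing R] [CommRing Q] [Algebra R Q]
    [IsFractionRing R Q] [IsArtinianRing Q] [IsReduced Q]
    (hcl : ∀ q : Q, IsIntegral R q → q ∈ Set.range (algebraMap R Q)) : EGA4.IsNormalRing R := by
  classical
  intro p _
  have : Nontrivial R := (Ideal.Quotient.mk p).domain_nontrivial
  let e := IsArtinianRing.equivPi Q
  have : Fintype (MaximalSpectrum Q) := Fintype.ofFinite _
  have hidem : ∀ m : MaximalSpectrum Q, ∃ a : R,
      algebraMap R Q a = e.symm (Pi.single m 1) := fun m => hcl _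
    ⟨X ^ 2 - X, monic_X_pow_sub (by rw [degree_X]; norm_num), by
      rw [eval₂_sub, eval₂_pow, eval₂_X, sub_eq_zero]
      rw [← map_pow]
      congr 1
      ext i
      rcases eq_or_ne i m with rfl | hi
      · simp
      · simp [hi]⟩
  choose a ha using hidem
  have hsum : ∑ m, a m = 1 := IsFractionRing.injective R Q (by
    rw [map_sum, map_one]
    simp_rw [ha]
    rw [← map_sum, Finset.univ_sum_single (fun i : MaximalSpectrum Q => (1 : Q ⧸ i.asIdeal))]
    exact map_one e.symm)
  obtain ⟨m, hm⟩ : ∃ m, a m ∉ p := by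
    by_contra! h
    exact (Ideal.IsPrime.ne_top ‹_›) ((Ideal.eq_top_iff_one p).mpr (hsum ▸ sum_mem fun i _ => h i))
  let K := Q ⧸ m.asIdeal
  let : Field K := Ideal.Quotient.field _
  let ψ : R →+* K := (Ideal.Quotient.mk m.asIdeal).comp (algebraMap R Q)
  have hcomp : ∀ q : Q, e q m = Ideal.Quotient.mk m.asIdeal q := fun q => rfl
  have hψ : ψ (a m) = 1 := by
    show Ideal.Quotient.mk m.asIdeal (algebraMap R Q (a m)) = 1
    rw [ha, ← hcomp, e.apply_symm_apply, Pi.single_eq_same]
  have hkill : ∀ r : R, ψ r = 0 → a m * r = 0 := fun r hr => IsFractionRing.injective R Q (e.injective (by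
    rw [map_mul, map_mul, ha, e.apply_symm_apply, map_zero, map_zero]
    ext i
    rcases eq_or_ne i m with rfl | hi
    · show (Pi.single (M := fun j : MaximalSpectrum Q => Q ⧸ j.asIdeal) i 1) i * e (algebraMap R Q r) i = 0
      rw [hcomp, Pi.single_eq_same, one_mul]
      exact hr
    · show (Pi.single (M := fun j : MaximalSpectrum Q => Q ⧸ j.asIdeal) m 1) i * e (algebraMap R Q r) i = 0
      rw [Pi.single_eq_of_ne hi, zero_mul]))
  let I := RingHom.ker ψ
  have hIp : I ≤ p := fun r hr =>
    ((Ideal.IsPrime.mem_or_mem ‹_› (hkill r hr ▸ p.zero_mem)).resolve_left hm)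
  let D := R ⧸ I
  have : I.IsPrime := RingHom.ker_isPrime ψ
  let : Algebra D K := (RingHom.kerLift ψ).toAlgebra
  have : IsScalarTower R D K := IsScalarTower.of_algebraMap_eq (R := R) (S := D) (A := K) fun _ => rfl
  have : FaithfulSMul D K := (faithfulSMul_iff_algebraMap_injective D K).mpr (RingHom.kerLift_injective ψ)
  have : IsFractionRing D K := IsFractionRing.of_field _ _ fun z => by
    obtain ⟨q, rfl⟩ := Ideal.Quotient.mk_surjective z
    obtain ⟨⟨r, s⟩, hrs⟩ := IsLocalization.surj (nonZeroDivisors R) q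
    refine ⟨Ideal.Quotient.mk I r, Ideal.Quotient.mk I s, ?_⟩
    show _ = ψ r / ψ s
    have hs : ψ s ≠ 0 := ((IsLocalization.map_units Q s).map (Ideal.Quotient.mk m.asIdeal)).ne_zero
    rw [eq_div_iff hs]
    show Ideal.Quotient.mk _ q * Ideal.Quotient.mk _ (algebraMap R Q s) = Ideal.Quotient.mk _ (algebraMap R Q r)
    rw [← map_mul]
    exact congrArg _ hrs
  have : IsIntegrallyClosed D := (isIntegrallyClosed_iff K).mpr fun {z} hz => by
    have : Algebra.IsIntegral R D := Algebra.isIntegral_def.mpr fun d => by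
      obtain ⟨r, rfl⟩ := Ideal.Quotient.mk_surjective d
      exact isIntegral_algebraMap
    obtain ⟨g, hg, hgz⟩ := isIntegral_trans (R := R) z hz
    obtain ⟨q, rfl⟩ := Ideal.Quotient.mk_surjective z
    let q' : Q := e.symm (Pi.single m (Ideal.Quotient.mk m.asIdeal q))
    have hq' : IsIntegral R q' := by
      refine ⟨X * g, monic_X.mul hg, ?_⟩
      rw [eval₂_mul, eval₂_X]
      apply e.injective
      ext i
      rw [map_mul, map_zero]
      show e q' i * e (eval₂ (algebraMap R Q) q' g) i = 0
      rcases eq_or_ne i m with rfl | hi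
      · rw [hcomp, hcomp, hom_eval₂]
        have h1 : Ideal.Quotient.mk i.asIdeal q' = Ideal.Quotient.mk i.asIdeal q := by
          rw [← hcomp]; simp [q']
        rw [h1]
        refine mul_eq_zero_of_right _ ?_
        exact hgz
      · simp [q', hi]
    obtain ⟨r, hr⟩ := hcl q' hq'
    refine ⟨Ideal.Quotient.mk I r, ?_⟩
    show Ideal.Quotient.mk m.asIdeal (algebraMap R Q r) = _
    rw [hr, ← hcomp]
    simp [q']
  let p' := p.map (Ideal.Quotient.mk I)
  have hp' : p'.IsPrime := Ideal.map_isPrime_of_surjective Ideal.Quotient.mk_surjective (by rwa [Ideal.mk_ker])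
  have hcomap : p'.comap (Ideal.Quotient.mk I) = p := by
    rw [Ideal.comap_map_of_surjective' _ Ideal.Quotient.mk_surjective, Ideal.mk_ker, sup_eq_left.mpr hIp]
  let f := Localization.localRingHom p p' (Ideal.Quotient.mk I) hcomap.symm
  have hf : Function.Bijective f := by
    refine ⟨(injective_iff_map_eq_zero f).mpr fun x hx => ?_, fun y => ?_⟩
    · obtain ⟨r, s, rfl⟩ := IsLocalization.exists_mk'_eq p.primeCompl x
      rw [Localization.localRingHom_mk', IsLocalization.mk'_eq_zero_iff] at hx
      obtain ⟨⟨c, hc⟩, hc0⟩ := hx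
      have hr : Ideal.Quotient.mk I r = 0 :=
        (mul_eq_zero.mp hc0).resolve_left fun h => hc ((show c = 0 from h) ▸ p'.zero_mem)
      rw [IsLocalization.mk'_eq_zero_iff]
      exact ⟨⟨a m, hm⟩, hkill r (Ideal.Quotient.eq_zero_iff_mem.mp hr)⟩
    · obtain ⟨d, s, rfl⟩ := IsLocalization.exists_mk'_eq p'.primeCompl y
      obtain ⟨r, rfl⟩ := Ideal.Quotient.mk_surjective d
      obtain ⟨t, ht⟩ := Ideal.Quotient.mk_surjective s.1
      have htp : t ∈ p.primeCompl := fun h => s.2 (ht ▸ Ideal.mem_map_of_mem _ h)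
      refine ⟨IsLocalization.mk' _ r ⟨t, htp⟩, ?_⟩
      rw [Localization.localRingHom_mk']
      congr 1
      exact Subtype.ext ht
  have hle : p'.primeCompl ≤ nonZeroDivisors D := p'.primeCompl_le_nonZeroDivisors
  exact FlatAscent.normal_transport (RingEquiv.ofBijective f hf).symm
    ⟨IsLocalization.isDomain_localization hle, isIntegrallyClosed_of_isLocalization _ p'.primeCompl hle⟩

/-- Iterated localization at regular elements. -/
theorem isFractionRing_of_localization {R T Q : Type u} [CommRing R] [CommRing T] [CommRing Q] [Algebra R T]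
    [Algebra T Q] [Algebra R Q] [IsScalarTower R T Q] (M : Submonoid R) [IsLocalization M T] [IsFractionRing T Q]
    (hM : M ≤ nonZeroDivisors R) : IsFractionRing R Q := by
  have hRT : Function.Injective (algebraMap R T) := IsLocalization.injective T hM
  have hnzd : ∀ s ∈ nonZeroDivisors R, algebraMap R T s ∈ nonZeroDivisors T := fun s hs =>
    mem_nonZeroDivisors_iff_right.mpr fun z hz => by
      obtain ⟨r, t, rfl⟩ := IsLocalization.exists_mk'_eq M z
      have h1 : algebraMap R T (r * s) = 0 := by
        rw [map_mul, ← IsLocalization.mk'_spec T r t, mul_right_comm, hz, zero_mul]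
      have h2 : r * s = 0 := hRT (h1.trans (map_zero _).symm)
      rw [(mul_right_mem_nonZeroDivisors_eq_zero_iff hs).mp h2, IsLocalization.mk'_zero]
  refine ⟨⟨fun s => ?_, fun z => ?_, fun {x y} h => ⟨1, ?_⟩⟩⟩
  · rw [IsScalarTower.algebraMap_apply R T Q]
    exact IsLocalization.map_units Q (⟨_, hnzd s s.2⟩ : nonZeroDivisors T)
  · obtain ⟨⟨u, v⟩, huv⟩ := IsLocalization.surj (nonZeroDivisors T) z
    obtain ⟨⟨a, s⟩, has⟩ := IsLocalization.surj M u
    obtain ⟨⟨b, t⟩, hbt⟩ := IsLocalization.surj M v.1
    have hb : b ∈ nonZeroDivisors R := mem_nonZeroDivisors_iff_right.mpr fun c hc => hRT (by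
      have h1 : algebraMap R T c * (v.1 * algebraMap R T t) = 0 := by rw [hbt, ← map_mul, hc, map_zero]
      rw [← mul_assoc, (IsLocalization.map_units T t).mul_left_eq_zero] at h1
      rw [map_zero]
      exact (mul_right_mem_nonZeroDivisors_eq_zero_iff v.2).mp h1)
    refine ⟨⟨a * t, ⟨b * s, mul_mem hb (hM s.2)⟩⟩, ?_⟩
    simp only [map_mul, IsScalarTower.algebraMap_apply R T Q]
    rw [← hbt, ← has, map_mul, map_mul, ← huv]
    ring
  · have : Function.Injective (algebraMap R Q) := by
      rw [IsScalarTower.algebraMap_eq R T Q]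
      exact (IsFractionRing.injective T Q).comp hRT
    rw [this h]

/-- The total ring of fractions of a reduced Noetherian ring is Artinian. -/
theorem isArtinianRing_fractionRing (T : Type u) [CommRing T] [IsNoetherianRing T] [IsReduced T] :
    IsArtinianRing (FractionRing T) := by
  let Q := FractionRing T
  have : IsNoetherianRing Q := IsLocalization.isNoetherianRing (nonZeroDivisors T) Q inferInstance
  refine isArtinianRing_iff_isNoetherianRing_krullDimLE_zero.mpr ⟨inferInstance,
    Ring.krullDimLE_zero_iff.mpr fun P hP => ?_⟩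
  have key : ∀ P : Ideal Q, P.IsPrime → P.comap (algebraMap T Q) ∈ minimalPrimes T := by
    intro P hP
    have hfin := minimalPrimes.finite_of_isNoetherianRing T
    have hsub : (P.comap (algebraMap T Q) : Set T) ⊆ ⋃ q ∈ minimalPrimes T, (q : Set T) := by
      intro x hx
      rw [Set.mem_iUnion₂]
      by_contra! h
      have hx' : x ∈ nonZeroDivisors T := mem_nonZeroDivisors_iff_right.mpr fun z hz => IsNilpotent.eq_zero (by
        rw [← mem_nilradical, nilradical, ← Ideal.sInf_minimalPrimes]
        exact Ideal.mem_sInf.mpr fun {q} hq => (hq.1.1.mem_or_mem (hz ▸ q.zero_mem)).resolve_right (h q hq))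
      exact hP.ne_top (P.eq_top_of_isUnit_mem hx (IsLocalization.map_units Q (⟨x, hx'⟩ : nonZeroDivisors T)))
    obtain ⟨q, hq, hle⟩ := (Ideal.subset_union_prime_finite hfin (f := id) ⊥ ⊥ fun i hi _ _ => hi.1.1).mp hsub
    exact le_antisymm hle (hq.2 ⟨hP.comap _, bot_le⟩ hle) ▸ hq
  obtain ⟨M, hM, hPM⟩ := Ideal.exists_le_maximal P hP.ne_top
  have h1 : P.comap (algebraMap T Q) = M.comap (algebraMap T Q) :=
    le_antisymm (Ideal.comap_mono hPM) ((key M hM.isPrime).2 (key P hP).1 (Ideal.comap_mono hPM))
  have h2 : P = M := by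
    rw [← IsLocalization.map_under (nonZeroDivisors T) Q P, ← IsLocalization.map_under (nonZeroDivisors T) Q M]
    exact congrArg (Ideal.map (algebraMap T Q)) h1
  exact h2 ▸ hM

end Groth.Agent.NormalTensor
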