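import Groth.Agent.NormalTensor.Core
import Groth.Agent.NormalTensor.Criterion
import Groth.Agent.S6278
import Groth.Agent.S9412
import Groth.Agent.FlatAscent.Tensor
import Groth.Agent.FlatAscent.IadicFibre2
import Groth.Agent.S9634

/-!
# Tensor products of normal rings over a field, without finiteness hypotheses
-/

universe u

namespace Groth.Agent.NormalTensor

open TensorProduct

variable {k : Type u} [Field k]

/-- Normality of `M ⊗ R` is local on `R`. -/
theorem isNormalRing_tensor_of_localizations {M R : Type u} [CommRing M] [Algebra k M] [CommRing R] [Algebra k R]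
    (h : ∀ (p : Ideal R) [p.IsPrime], EGA4.IsNormalRing (M ⊗[k] Localization.AtPrime p)) :
    EGA4.IsNormalRing (M ⊗[k] R) := by
  intro Q _
  let p := Q.comap (Algebra.TensorProduct.includeRight (R := k) (A := M) : R →ₐ[k] M ⊗[k] R).toRingHom
  let Rp := Localization.AtPrime p
  let : Algebra (M ⊗[k] R) (M ⊗[k] Rp) :=
    (Algebra.TensorProduct.map (AlgHom.id M M) (IsScalarTower.toAlgHom k R Rp)).toRingHom.toAlgebra
  have : IsScalarTower M (M ⊗[k] R) (M ⊗[k] Rp) :=
    .of_algebraMap_eq fun c => ((Algebra.TensorProduct.map (AlgHom.id M M)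
      (IsScalarTower.toAlgHom k R Rp)).commutes c).symm
  have hloc := IsLocalization.tensorProduct_tensorProduct_right (R := k) (S := M) p.primeCompl Rp
    (RingHom.ext fun c => by simp [RingHom.algebraMap_toAlgebra])
  let N : Submonoid (M ⊗[k] R) := p.primeCompl.map (Algebra.TensorProduct.includeRight (R := k) (A := M))
  have hd : Disjoint (N : Set (M ⊗[k] R)) Q := Set.disjoint_left.mpr fun x hx hxQ => by
    obtain ⟨r, hr, rfl⟩ := hx
    exact hr hxQ
  let Q' := Q.map (algebraMap (M ⊗[k] R) (M ⊗[k] Rp))
  have : Q'.IsPrime := IsLocalization.isPrime_of_isPrime_disjoint N _ Q ‹_› hd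
  have hQ' : Q'.comap (algebraMap (M ⊗[k] R) (M ⊗[k] Rp)) = Q :=
    IsLocalization.comap_map_of_isPrime_disjoint N _ ‹_› hd
  have := IsLocalization.isLocalization_isLocalization_atPrime_isLocalization N (Localization.AtPrime Q') Q'
  have key : ∀ (P : Ideal (M ⊗[k] R)) [P.IsPrime]
      [IsLocalization P.primeCompl (Localization.AtPrime Q')], P = Q →
      IsDomain (Localization.AtPrime Q) ∧ IsIntegrallyClosed (Localization.AtPrime Q) := by
    rintro P _ _ rfl
    exact FlatAscent.normal_transport (IsLocalization.algEquiv P.primeCompl (Localization.AtPrime Q')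
      (Localization.AtPrime P)).toRingEquiv (h p Q')
  exact key _ hQ'

theorem isArtinianRing_fractionRing_of_localization {S T : Type u} [CommRing S] [CommRing T] [Algebra S T]
    (N : Submonoid S) [IsLocalization N T] (hN : N ≤ nonZeroDivisors S) [IsNoetherianRing T] [IsReduced T] :
    IsArtinianRing (FractionRing S) := by
  have := isFractionRing_of_localization (R := S) (T := T) (Q := FractionRing T) N hN
  have := isArtinianRing_fractionRing T
  exact (FractionRing.algEquiv S (FractionRing T)).symm.toRingEquiv.isArtinianRing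

/-- The image of the non-zero elements of a domain in `M ⊗ B`. -/
theorem le_nonZeroDivisors (M : Type u) [CommRing M] [Algebra k M] (B K : Type u) [CommRing B] [IsDomain B]
    [Algebra k B] [Field K] [Algebra B K] [IsFractionRing B K] [Algebra k K] [IsScalarTower k B K] :
    (nonZeroDivisors B).map (Algebra.TensorProduct.includeRight (R := k) (A := M) : B →ₐ[k] M ⊗[k] B) ≤
      nonZeroDivisors (M ⊗[k] B) := by
  rintro _ ⟨b, hb, rfl⟩
  refine mem_nonZeroDivisors_iff_right.mpr fun z hz => ?_
  let φ := Algebra.TensorProduct.map (AlgHom.id k M) (IsScalarTower.toAlgHom k B K)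
  have hφ : Function.Injective φ := Module.Flat.lTensor_preserves_injective_linearMap
    (IsScalarTower.toAlgHom k B K).toLinearMap (IsFractionRing.injective B K)
  have hu : IsUnit (φ ((1 : M) ⊗ₜ[k] b)) := by
    show IsUnit ((1 : M) ⊗ₜ[k] algebraMap B K b)
    exact (IsUnit.mk0 _ (IsFractionRing.to_map_ne_zero_of_mem_nonZeroDivisors hb)).map
      (Algebra.TensorProduct.includeRight : K →ₐ[k] M ⊗[k] K)
  refine hφ ?_
  have h1 : φ z * φ ((1 : M) ⊗ₜ[k] b) = 0 := by rw [← map_mul]; exact (congrArg φ hz).trans (map_zero φ)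
  rw [map_zero]
  exact hu.mul_left_eq_zero.mp h1

/-- `M ⊗ B` is normal when `M ⊗ Frac B` is normal with Artinian total ring of fractions. -/
theorem isNormalRing_tensor_of_fractionField {M B K : Type u} [CommRing M] [Algebra k M] [CommRing B] [IsDomain B]
    [IsIntegrallyClosed B] [Field K] [Algebra B K] [IsFractionRing B K] [Algebra k B] [Algebra k K]
    [IsScalarTower k B K] (hM : ∀ (κ : Type u) [Field κ] [Algebra k κ], IsReduced (M ⊗[k] κ))
    (hN : EGA4.IsNormalRing (M ⊗[k] K)) (hart : IsArtinianRing (FractionRing (M ⊗[k] K))) :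
    EGA4.IsNormalRing (M ⊗[k] B) := by
  let R := M ⊗[k] B
  let T := M ⊗[k] K
  let Q := FractionRing T
  let φ := Algebra.TensorProduct.map (AlgHom.id M M) (IsScalarTower.toAlgHom k B K)
  let : Algebra R T := φ.toRingHom.toAlgebra
  have : IsScalarTower M R T := .of_algebraMap_eq fun c => (φ.commutes c).symm
  have hloc := IsLocalization.tensorProduct_tensorProduct_right (R := k) (S := M) (nonZeroDivisors B) K
    (RingHom.ext fun c => by simp [R, T, φ, RingHom.algebraMap_toAlgebra])
  have hRQ : algebraMap R Q = (algebraMap T Q).comp (algebraMap R T) := IsScalarTower.algebraMap_eq R T Q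
  have := isFractionRing_of_localization (R := R) (T := T) (Q := Q) _ (le_nonZeroDivisors M B K)
  have := isReduced_of_isNormalRing hN
  have : IsReduced Q := isReduced_localizationPreserves (nonZeroDivisors T) Q inferInstance
  refine isNormalRing_of_isIntegrallyClosed (R := R) (Q := Q) fun q hq => ?_
  obtain ⟨t, rfl⟩ := (S6278.result T hN).algebraMap_eq_of_integral hq.tower_top
  obtain ⟨P, hP, hPz⟩ := hq
  have hint : φ.toRingHom.IsIntegralElem t := by
    refine ⟨P, hP, IsFractionRing.injective T Q ?_⟩
    rw [Polynomial.hom_eval₂, map_zero]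
    rw [hRQ] at hPz
    exact hPz
  obtain ⟨r, hr⟩ := mem_range_of_isIntegral hM t hint
  exact ⟨r, (RingHom.congr_fun hRQ r).trans (congrArg (algebraMap T Q) hr)⟩

theorem isArtinianRing_fractionRing_congr {S T : Type u} [CommRing S] [CommRing T] (e : S ≃+* T)
    [IsArtinianRing (FractionRing S)] : IsArtinianRing (FractionRing T) :=
  (IsFractionRing.ringEquivOfRingEquiv (K := FractionRing S) (L := FractionRing T) e).isArtinianRing

/-- The total ring of fractions of `A ⊗ L` for a domain `A` and a finitely generated extension `L`. -/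
theorem isArtinianRing_fractionRing_tensor (L A : Type u) [Field L] [Algebra k L] [Algebra.EssFiniteType k L]
    [CommRing A] [IsDomain A] [Algebra k A] [IsReduced (L ⊗[k] A)] :
    IsArtinianRing (FractionRing (L ⊗[k] A)) := by
  let F := FractionRing A
  let φ := Algebra.TensorProduct.map (AlgHom.id L L) (IsScalarTower.toAlgHom k A F)
  let : Algebra (L ⊗[k] A) (L ⊗[k] F) := φ.toRingHom.toAlgebra
  have : IsScalarTower L (L ⊗[k] A) (L ⊗[k] F) := .of_algebraMap_eq fun c => (φ.commutes c).symm
  have hloc := IsLocalization.tensorProduct_tensorProduct_right (R := k) (S := L) (nonZeroDivisors A) F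
    (RingHom.ext fun c => by simp [φ, RingHom.algebraMap_toAlgebra])
  have : IsNoetherianRing (L ⊗[k] F) := by
    have := Algebra.EssFiniteType.isNoetherianRing F (F ⊗[k] L)
    exact isNoetherianRing_of_ringEquiv (F ⊗[k] L) (Algebra.TensorProduct.comm k F L).toRingEquiv
  have : IsReduced (L ⊗[k] F) := isReduced_localizationPreserves
    ((nonZeroDivisors A).map (Algebra.TensorProduct.includeRight (R := k) (A := L) : A →ₐ[k] L ⊗[k] A))
    (L ⊗[k] F) inferInstance
  exact isArtinianRing_fractionRing_of_localization (T := L ⊗[k] F) _ (le_nonZeroDivisors L A F)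

/-- A finitely generated separable extension keeps normality. -/
theorem isNormalRing_separable_tensor (L : Type u) [Field L] [Algebra k L] [Algebra.EssFiniteType k L]
    [Algebra.IsGeometricallyReduced k L] {A : Type u} [CommRing A] [Algebra k A] (hA : EGA4.IsNormalRing A) :
    EGA4.IsNormalRing (L ⊗[k] A) := by
  refine isNormalRing_tensor_of_localizations fun p _ => ?_
  obtain ⟨_, _⟩ := hA p
  let F := FractionRing (Localization.AtPrime p)
  have hreg : IsRegularRing (F ⊗[k] L) := FlatAscent.isRegularRing_field_tensor L F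
  have hreg' : IsRegularRing (L ⊗[k] F) := IsRegularRing.of_ringEquiv (R := F ⊗[k] L)
    (Algebra.TensorProduct.comm k F L).toRingEquiv
  have hM : ∀ (κ : Type u) [Field κ] [Algebra k κ], IsReduced (L ⊗[k] κ) := fun κ _ _ =>
    EGA41Lib.isReduced_tensor κ
  have := hM F
  refine isNormalRing_tensor_of_fractionField (K := F) hM (FlatAscent.isNormalRing_of_isRegularRing) ?_
  have : IsLocalization (⊥ : Submonoid (L ⊗[k] F)) (L ⊗[k] F) :=
    IsLocalization.of_le_isUnit fun x hx => by rw [Submonoid.mem_bot] at hx; exact hx ▸ isUnit_one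
  exact isArtinianRing_fractionRing_of_localization (S := L ⊗[k] F) (T := L ⊗[k] F) ⊥ bot_le

/-- Geometric normality holds after any finitely generated extension, without Noetherian hypotheses. -/
theorem isNormalRing_field_tensor_of_geomNormal (L : Type u) [Field L] [Algebra k L] [Algebra.EssFiniteType k L]
    {A : Type u} [CommRing A] [Algebra k A] (hA : EGA4.IsGeomNormal k A) : EGA4.IsNormalRing (L ⊗[k] A) := by
  obtain ⟨k', _, _, K', _, _, _, _, ⟨hfin, hpi⟩, _, _, _, _⟩ := FlatAscent.exists_separable_compositum (k := k) L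
  let R := k' ⊗[k] A
  have h1 : EGA4.IsNormalRing (K' ⊗[k'] R) := isNormalRing_separable_tensor K' (hA k' hfin)
  let R₁ := L ⊗[k] A
  let T₁ := R₁ ⊗[L] K'
  let e : K' ⊗[k'] R ≃+* T₁ :=
    (Algebra.TensorProduct.cancelBaseChange k k' K' K' A).toRingEquiv.trans
      ((Algebra.TensorProduct.cancelBaseChange k L K' K' A).symm.toRingEquiv.trans
        (Algebra.TensorProduct.comm L K' R₁).toRingEquiv)
  exact FlatAscent.isNormalRing_of_faithfullyFlat (R := R₁) (S := T₁) (FlatAscent.isNormalRing_of_ringEquiv e h1)

/-- Reducedness after base change of a geometrically normal algebra. -/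
theorem isReduced_tensor_of_geomNormal {A : Type u} [CommRing A] [Algebra k A] (hA : EGA4.IsGeomNormal k A)
    (κ : Type u) [Field κ] [Algebra k κ] : IsReduced (A ⊗[k] κ) := by
  have : Algebra.IsGeometricallyReduced k A := FlatAscent.Iadic.isGeometricallyReduced_of_finite_ext
    fun k' _ _ hk => isReduced_of_isNormalRing (hA k' hk)
  have h1 : Algebra.IsGeometricallyReduced k A ↔ ∀ (K : Type u) [Field K] [Algebra k K], IsReduced (K ⊗[k] A) :=
    (S9634.result (k := k) (S := A)).out 1 2
  have := h1.mp ‹_› κ
  exact isReduced_of_injective _ (Algebra.TensorProduct.comm k A κ).injective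

/-- Filtered unions of subalgebras. -/
theorem isNormalRing_tensor_of_directed {A B : Type u} [CommRing A] [Algebra k A] [CommRing B] [Algebra k B]
    {ι : Type u} [Preorder ι] [IsDirectedOrder ι] [Nonempty ι] (S : ι → Subalgebra k B) (hS : Monotone S)
    (hcover : ∀ b, ∃ i, b ∈ S i) (h : ∀ i, EGA4.IsNormalRing (A ⊗[k] S i)) : EGA4.IsNormalRing (A ⊗[k] B) := by
  let g : ∀ i, A ⊗[k] S i →ₐ[k] A ⊗[k] B := fun i => Algebra.TensorProduct.map (AlgHom.id k A) (S i).val
  let f : ∀ i j, i ≤ j → A ⊗[k] S i →ₐ[k] A ⊗[k] S j := fun i j h =>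
    Algebra.TensorProduct.map (AlgHom.id k A) (Subalgebra.inclusion (hS h))
  have hgf : ∀ i j h, (g j).comp (f i j h) = g i := fun i j h => by ext x <;> rfl
  have hff : ∀ i j r h₁ h₂, (f j r h₂).comp (f i j h₁) = f i r (le_trans h₁ h₂) := fun i j r h₁ h₂ => by
    ext x <;> rfl
  refine FlatAscent.isNormalRing_of_colimit (G := fun i => A ⊗[k] S i) (fun i j h => (f i j h).toRingHom)
    (fun i => (g i).toRingHom) (fun i j h x => AlgHom.congr_fun (hgf i j h) x)
    (fun i j r h₁ h₂ x => AlgHom.congr_fun (hff i j r h₁ h₂) x) (fun a => ?_) (fun i x hx => ⟨i, le_rfl, ?_⟩) h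
  · induction a using TensorProduct.induction_on with
    | zero => exact ⟨Classical.arbitrary ι, 0, map_zero _⟩
    | tmul a b =>
      obtain ⟨i, hi⟩ := hcover b
      exact ⟨i, a ⊗ₜ ⟨b, hi⟩, rfl⟩
    | add x y hx hy =>
      obtain ⟨i, x', rfl⟩ := hx
      obtain ⟨j, y', rfl⟩ := hy
      obtain ⟨r, h1, h2⟩ := exists_ge_ge i j
      refine ⟨r, f i r h1 x' + f j r h2 y', ?_⟩
      rw [map_add]
      exact congrArg₂ (· + ·) (AlgHom.congr_fun (hgf i r h1) x') (AlgHom.congr_fun (hgf j r h2) y')
  · have hinj : Function.Injective (g i) :=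
      Module.Flat.lTensor_preserves_injective_linearMap (S i).val.toLinearMap Subtype.val_injective
    have : x = 0 := hinj (by rw [map_zero]; exact hx)
    rw [this, map_zero]

/-- The elements of `B` in a subfield generated by elements of `B`. -/
theorem isFractionRing_comap {B K : Type u} [CommRing B] [Algebra k B] [Field K] [Algebra B K] [IsFractionRing B K]
    [Algebra k K] [IsScalarTower k B K] [IsDomain B] [IsIntegrallyClosed B] (L : IntermediateField k K)
    (T : Set B) (hL : L = IntermediateField.adjoin k (algebraMap B K '' T)) :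
    let Bk := L.toSubalgebra.comap (IsScalarTower.toAlgHom k B K)
    ∃ (_ : Algebra Bk L), IsScalarTower k Bk L ∧ IsFractionRing Bk L ∧ IsIntegrallyClosed Bk := by
  intro Bk
  let ι := IsScalarTower.toAlgHom k B K
  let j : Bk →ₐ[k] L := (ι.comp Bk.val).codRestrict L.toSubalgebra fun b => b.2
  let : Algebra Bk L := j.toRingHom.toAlgebra
  have htow : IsScalarTower k Bk L := .of_algebraMap_eq fun x => (j.commutes x).symm
  have hj : Function.Injective (algebraMap Bk L) := fun a b h =>
    Subtype.ext (IsFractionRing.injective B K (congrArg Subtype.val h))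
  have : FaithfulSMul Bk L := (faithfulSMul_iff_algebraMap_injective Bk L).mpr hj
  have hfr : IsFractionRing Bk L := IsFractionRing.of_field _ _ fun z => by
    have hz : (z : K) ∈ IntermediateField.adjoin k (algebraMap B K '' T) := hL ▸ z.2
    obtain ⟨r, hr, t, ht, hrt⟩ := IntermediateField.mem_adjoin_iff_div.mp hz
    have hsub : Algebra.adjoin k (algebraMap B K '' T) ≤ Bk.map ι := Algebra.adjoin_le fun y hy => by
      obtain ⟨b, hb, rfl⟩ := hy
      exact ⟨b, (hL ▸ IntermediateField.subset_adjoin k _ ⟨b, hb, rfl⟩ : algebraMap B K b ∈ L), rfl⟩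
    obtain ⟨r', hr', rfl⟩ := hsub hr
    obtain ⟨t', ht', rfl⟩ := hsub ht
    exact ⟨⟨r', hr'⟩, ⟨t', ht'⟩, Subtype.ext hrt⟩
  refine ⟨_, htow, hfr, (isIntegrallyClosed_iff L).mpr fun {z} hz => ?_⟩
  obtain ⟨P, hP, hPz⟩ := hz
  have hint : IsIntegral B (z : K) := ⟨P.map Bk.val.toRingHom, hP.map _, by
    rw [Polynomial.eval₂_map]
    have := congrArg L.val hPz
    rw [map_zero] at this
    rw [← this]
    exact (Polynomial.hom_eval₂ P (algebraMap Bk L) L.val.toRingHom z).symm⟩
  obtain ⟨b, hb⟩ := IsIntegrallyClosed.isIntegral_iff.mp hint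
  exact ⟨⟨b, show ι b ∈ L from hb.symm ▸ z.2⟩, Subtype.ext hb⟩

/-- Limit over the finitely generated subfields of the fraction field. -/
theorem isNormalRing_tensor_of_subfields {A B K : Type u} [CommRing A] [IsDomain A] [Algebra k A] [CommRing B]
    [IsDomain B] [IsIntegrallyClosed B] [Algebra k B] [Field K] [Algebra B K] [IsFractionRing B K] [Algebra k K]
    [IsScalarTower k B K] (hA : ∀ (κ : Type u) [Field κ] [Algebra k κ], IsReduced (A ⊗[k] κ))
    (hK : ∀ L : IntermediateField k K, Algebra.EssFiniteType k L → EGA4.IsNormalRing (A ⊗[k] L)) :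
    EGA4.IsNormalRing (A ⊗[k] B) := by
  classical
  refine isNormalRing_tensor_of_directed (ι := Finset B)
    (fun s => (IntermediateField.adjoin k (algebraMap B K '' (s : Set B))).toSubalgebra.comap
      (IsScalarTower.toAlgHom k B K))
    (fun s t h b hb => IntermediateField.adjoin.mono k _ _ (Set.image_mono (Finset.coe_subset.mpr h)) hb)
    (fun b => ⟨{b}, IntermediateField.subset_adjoin k _ ⟨b, Finset.mem_coe.mpr (Finset.mem_singleton_self b), rfl⟩⟩)
    fun s => ?_
  generalize hL : IntermediateField.adjoin k (algebraMap B K '' (s : Set B)) = L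
  obtain ⟨_, _, _, _⟩ := isFractionRing_comap L (s : Set B) hL.symm
  have hess : Algebra.EssFiniteType k L := by
    subst hL
    rw [← Finset.coe_image]
    exact IntermediateField.essFiniteType_iff.mpr (IntermediateField.fg_adjoin_finset _)
  have hN := hK L hess
  have : IsReduced (L ⊗[k] A) := by
    have := isReduced_of_isNormalRing hN
    exact isReduced_of_injective _ (Algebra.TensorProduct.comm k L A).injective
  have := isArtinianRing_fractionRing_tensor (k := k) L A
  exact isNormalRing_tensor_of_fractionField (K := L) hA hN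
    (isArtinianRing_fractionRing_congr (Algebra.TensorProduct.comm k L A).toRingEquiv)

/-- A geometrically normal algebra tensor a normal ring is normal. -/
theorem isNormalRing_tensor {A B : Type u} [CommRing A] [Algebra k A] [CommRing B] [Algebra k B]
    (hA : EGA4.IsGeomNormal k A) (hB : EGA4.IsNormalRing B) : EGA4.IsNormalRing (A ⊗[k] B) := by
  have hA0 : EGA4.IsNormalRing A := FlatAscent.isNormalRing_of_ringEquiv
    (Algebra.TensorProduct.lid k A).toRingEquiv (hA k inferInstance)
  refine FlatAscent.isNormalRing_of_ringEquiv (Algebra.TensorProduct.comm k B A).toRingEquiv ?_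
  refine isNormalRing_tensor_of_localizations fun p _ => ?_
  refine FlatAscent.isNormalRing_of_ringEquiv (Algebra.TensorProduct.comm k (Localization.AtPrime p) B).toRingEquiv ?_
  refine isNormalRing_tensor_of_localizations fun q _ => ?_
  obtain ⟨_, _⟩ := hA0 p
  obtain ⟨_, _⟩ := hB q
  have hAp : EGA4.IsGeomNormal k (Localization.AtPrime p) :=
    S9412.result k A p.primeCompl (Localization.AtPrime p) hA
  exact isNormalRing_tensor_of_subfields (K := FractionRing (Localization.AtPrime q))
    (isReduced_tensor_of_geomNormal hAp) fun L hL => FlatAscent.isNormalRing_of_ringEquiv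
      (Algebra.TensorProduct.comm k L (Localization.AtPrime p)).toRingEquiv
      (haveI := hL; isNormalRing_field_tensor_of_geomNormal L hAp)

/-- Separable field extensions are geometrically normal. -/
theorem isGeomNormal_of_separable (k' : Type u) [Field k'] [Algebra k k'] [Algebra.IsGeometricallyReduced k k'] :
    EGA4.IsGeomNormal k k' := fun L _ _ hL => by
  have : IsArtinianRing (L ⊗[k] k') := by
    have : IsArtinianRing (k' ⊗[k] L) := IsArtinianRing.of_finite k' _
    exact (Algebra.TensorProduct.comm k k' L).toRingEquiv.isArtinianRing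
  have : IsReduced (k' ⊗[k] L) := EGA41Lib.isReduced_tensor L
  have : IsReduced (L ⊗[k] k') := isReduced_of_injective _ (Algebra.TensorProduct.comm k L k').injective
  have := FlatAscent.isRegularRing_of_isArtinianRing (L ⊗[k] k')
  exact FlatAscent.isNormalRing_of_isRegularRing

end Groth.Agent.NormalTensor
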