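import Groth.Agent.FlatAscent.NormalLocal
import Mathlib.RingTheory.Valuation.LocalSubring
import Mathlib.LinearAlgebra.TensorProduct.Basis
import Mathlib.RingTheory.Polynomial.ScaleRoots

/-!
# Integral closedness of tensor products with an integrally closed domain over a field
-/

universe u

namespace Groth.Agent.NormalTensor

open TensorProduct Polynomial

/-- `M ⊗ B` is integrally closed in `M ⊗ Frac B` when `M ⊗ κ` is reduced for every field `κ`. -/
theorem mem_range_of_isIntegral {k M B K : Type u} [Field k] [CommRing M] [Algebra k M] [CommRing B] [IsDomain B]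
    [IsIntegrallyClosed B] [Field K] [Algebra B K] [IsFractionRing B K] [Algebra k B] [Algebra k K]
    [IsScalarTower k B K] (hM : ∀ (κ : Type u) [Field κ] [Algebra k κ], IsReduced (M ⊗[k] κ))
    (z : M ⊗[k] K)
    (hz : (Algebra.TensorProduct.map (AlgHom.id k M) (IsScalarTower.toAlgHom k B K)).toRingHom.IsIntegralElem z) :
    z ∈ Set.range (Algebra.TensorProduct.map (AlgHom.id k M) (IsScalarTower.toAlgHom k B K)) := by
  classical
  let φ := Algebra.TensorProduct.map (AlgHom.id k M) (IsScalarTower.toAlgHom k B K)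
  let e := Module.Free.chooseBasis k M
  let E := equivFinsuppOfBasisLeft (N := K) e
  let R₀ := (algebraMap B K).range
  by_cases hall : ∀ i, E z i ∈ R₀
  · show z ∈ φ.range
    rw [← E.symm_apply_apply z, equivFinsuppOfBasisLeft_symm_apply]
    refine Subalgebra.sum_mem _ fun i _ => ?_
    obtain ⟨b, hb⟩ := hall i
    refine ⟨e i ⊗ₜ b, ?_⟩
    show φ (e i ⊗ₜ b) = _
    rw [Algebra.TensorProduct.map_tmul]
    exact congrArg (e i ⊗ₜ[k] ·) hb
  exfalso
  push Not at hall
  obtain ⟨i₀, hi₀⟩ := hall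
  have : IsIntegrallyClosedIn R₀ K := Subring.isIntegrallyClosedIn_iff.mpr fun {x} hx => by
    obtain ⟨P, hP, hPx⟩ := hx
    have hl : P ∈ Polynomial.lifts (algebraMap B K).rangeRestrict :=
      (Polynomial.lifts_iff_coeff_lifts P).mpr fun n => (algebraMap B K).rangeRestrict_surjective _
    obtain ⟨Q, hQ, -, hQm⟩ := Polynomial.lifts_and_degree_eq_and_monic hl hP
    have hint : IsIntegral B x := ⟨Q, hQm, by rw [← hQ, eval₂_map] at hPx; exact hPx⟩
    obtain ⟨b, hb⟩ := IsIntegrallyClosed.isIntegral_iff.mp hint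
    exact ⟨b, hb⟩
  obtain ⟨V, hVle, hVi⟩ := Subring.exists_le_valuationSubring_of_isIntegrallyClosedIn (R := R₀) hi₀
  have hi₀s : i₀ ∈ (E z).support := Finsupp.mem_support_iff.mpr fun h => hi₀ (h ▸ R₀.zero_mem)
  obtain ⟨j, hj, hmax⟩ := (E z).support.exists_max_image (fun i => V.valuation (E z i)) ⟨i₀, hi₀s⟩
  let c := E z j
  have hcV : c ∉ V := fun h => hVi ((V.valuation_le_one_iff _).mp
    ((hmax i₀ hi₀s).trans ((V.valuation_le_one_iff _).mpr h)))
  have hc0 : c ≠ 0 := fun h => hcV (h ▸ V.zero_mem)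
  have hsV : c⁻¹ ∈ V := (V.mem_or_inv_mem c).resolve_left hcV
  let s : V := ⟨c⁻¹, hsV⟩
  have hsm : s ∈ IsLocalRing.maximalIdeal V := by
    rw [IsLocalRing.mem_maximalIdeal, mem_nonunits_iff]
    intro hu
    obtain ⟨t, ht⟩ := hu.exists_right_inv
    have h1 : c⁻¹ * (t : K) = 1 := congrArg Subtype.val ht
    exact hcV ((inv_mul_eq_one₀ hc0).mp h1 ▸ t.2)
  have hw : ∀ i, E z i / c ∈ V := fun i => by
    rw [← V.valuation_le_one_iff, map_div₀]
    by_cases hi : i ∈ (E z).support
    · exact div_le_one_of_le₀ (hmax i hi) zero_le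
    · rw [Finsupp.notMem_support_iff.mp hi, map_zero, zero_div]; exact zero_le
  let β₀ : B →+* V := (algebraMap B K).codRestrict V.toSubring fun b => hVle ⟨b, rfl⟩
  let : Algebra k V := (β₀.comp (algebraMap k B)).toAlgebra
  have hkV : IsScalarTower k V K := .of_algebraMap_eq fun x => IsScalarTower.algebraMap_apply k B K x
  let β : B →ₐ[k] V := { β₀ with commutes' := fun _ => rfl }
  let ψ := Algebra.TensorProduct.map (AlgHom.id k M) (IsScalarTower.toAlgHom k V K)
  have hψ : Function.Injective ψ := Module.Flat.lTensor_preserves_injective_linearMap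
    (IsScalarTower.toAlgHom k V K).toLinearMap Subtype.val_injective
  let g := Algebra.TensorProduct.map (AlgHom.id k M) β
  have hg : ψ.toRingHom.comp g.toRingHom = φ.toRingHom := by
    refine RingHom.ext fun x => ?_
    show ψ (g x) = φ x
    induction x using TensorProduct.induction_on with
    | zero => simp
    | tmul m b => rfl
    | add x y hx hy => simp only [map_add, hx, hy]
  obtain ⟨P, hPm, hPz⟩ := hz
  let P' := P.map g.toRingHom
  have hP'z : P'.eval₂ ψ.toRingHom z = 0 := by rw [eval₂_map, hg]; exact hPz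
  let w : M ⊗[k] V := ∑ i ∈ (E z).support, e i ⊗ₜ (⟨E z i / c, hw i⟩ : V)
  have hwz : ψ ((1 : M) ⊗ₜ s) * z = ψ w := by
    conv_lhs => rw [← E.symm_apply_apply z, equivFinsuppOfBasisLeft_symm_apply]
    rw [Finsupp.sum, Finset.mul_sum, map_sum]
    refine Finset.sum_congr rfl fun i _ => ?_
    show ((1 : M) ⊗ₜ[k] (c⁻¹ : K)) * (e i ⊗ₜ[k] E z i) = e i ⊗ₜ[k] (E z i / c)
    rw [Algebra.TensorProduct.tmul_mul_tmul, one_mul, div_eq_inv_mul]
  have h0 := scaleRoots_eval₂_eq_zero ψ.toRingHom hP'z (s := (1 : M) ⊗ₜ s)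
  rw [show ψ.toRingHom ((1 : M) ⊗ₜ[k] s) * z = ψ.toRingHom w from hwz, eval₂_at_apply] at h0
  have h1 : (P'.scaleRoots ((1 : M) ⊗ₜ s)).eval w = 0 := hψ (h0.trans (map_zero _).symm)
  let κ := IsLocalRing.ResidueField V
  let π := Algebra.TensorProduct.map (AlgHom.id k M) (IsScalarTower.toAlgHom k V κ)
  have hσ : π ((1 : M) ⊗ₜ s) = 0 := by
    show (1 : M) ⊗ₜ[k] (IsLocalRing.residue V s) = 0
    rw [(IsLocalRing.residue_eq_zero_iff s).mpr hsm, tmul_zero]
  have hwj : equivFinsuppOfBasisLeft (N := κ) e (π w) j = 1 := by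
    rw [map_sum, map_sum, Finsupp.finsetSum_apply, Finset.sum_eq_single j]
    · show equivFinsuppOfBasisLeft (N := κ) e (e j ⊗ₜ IsLocalRing.residue V _) j = 1
      rw [equivFinsuppOfBasisLeft_apply_tmul_apply, e.repr_self, Finsupp.single_eq_same, one_smul]
      rw [show (⟨E z j / c, hw j⟩ : V) = 1 from Subtype.ext (div_self hc0)]
      exact map_one (IsLocalRing.residue V)
    · intro i _ hi
      show equivFinsuppOfBasisLeft (N := κ) e (e i ⊗ₜ IsLocalRing.residue V _) j = 0
      rw [equivFinsuppOfBasisLeft_apply_tmul_apply, e.repr_self, Finsupp.single_eq_of_ne hi.symm, zero_smul]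
    · exact fun h => absurd hj h
  have : Nontrivial (M ⊗[k] κ) := ⟨⟨π w, 0, fun h => by simp [h] at hwj⟩⟩
  have hP'm : P'.Monic := hPm.map _
  have h2 := congrArg π.toRingHom h1
  rw [map_zero, ← eval₂_at_apply, ← eval_map, map_scaleRoots _ _ _ (by
    rw [hP'm.leadingCoeff, map_one]; exact one_ne_zero)] at h2
  rw [show π.toRingHom ((1 : M) ⊗ₜ[k] s) = 0 from hσ, scaleRoots_zero, (hP'm.map _).leadingCoeff, one_smul,
    eval_pow, eval_X] at h2
  have := hM κ
  have h3 : π w = 0 := IsNilpotent.eq_zero ⟨_, h2⟩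
  rw [h3, map_zero, Finsupp.zero_apply] at hwj
  exact zero_ne_one hwj

end Groth.Agent.NormalTensor
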